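import Groth.Agent.Lib.SymCurve53.Free
import Groth.Agent.Lib.HilbD.FppfDesc

/-!
# The symmetric power of a curve is the Hilbert scheme of points
-/

set_option autoImplicit false
set_option linter.style.haveILetI false
set_option backward.isDefEq.respectTransparency false

universe u

open CategoryTheory CategoryTheory.Limits AlgebraicGeometry
open Groth.Agent.Lib Groth.Agent.Lib.HilbD

namespace Groth.Agent.Lib.SymCurve53

variable {C S Y : Scheme.{u}} (f : C ⟶ S) [IsProper f] [SmoothOfRelativeDimension 1 f] {n : ℕ}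

/-- The symmetric power carries a universal family pulling back to the sum of the graphs, is proper
and smooth, and the quotient map is finite locally free of degree `n!`. -/
theorem main (hAF : SymProd.IsAF f) (q : SymProd.fibPow f n ⟶ Y) (g : Y ⟶ S)
    (hq : SymProd.IsSymProd f n q g) :
    IsProper g ∧ Smooth g ∧ Mor2.IsFinLocFreeOfDeg n.factorial q ∧
      ∃ (D : _root_.HilbD.Obj f n (Over.mk g)) (qO : pow f n ⟶ Over.mk g), qO.left = q ∧
        _root_.HilbD.IsUniversal f n (Over.mk g) D ∧ _root_.HilbD.pull f qO D.1 = sumGraph f n := by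
  classical
  have hrep : ∀ e, _root_.HilbD.Representable f e := fun e =>
    Groth.Agent.S1166.result f e fun s x hx => by
      obtain ⟨U, hU, hxU⟩ := hAF s (Finset.univ.image x) fun y hy => by
        obtain ⟨i, -, rfl⟩ := Finset.mem_image.mp hy
        exact hx i
      exact ⟨U, hU, fun i => hxU _ (Finset.mem_image_of_mem _ (Finset.mem_univ i))⟩
  obtain ⟨H, Z, hZ⟩ := hrep n
  haveI : UniversallyClosed H.hom := HilbCurve53.universallyClosed f hrep n H Z hZ
  haveI : Smooth H.hom := Groth.Agent.S1169.result f hrep n H Z hZ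
  haveI : IsSeparated H.hom := Groth.Agent.S1167.result f n H Z hZ
  haveI : IsProper H.hom := {}
  obtain ⟨c, hc, -⟩ := hZ (pow f n) (sumObj f n)
  replace hc : _root_.HilbD.pull f c Z.1 = sumGraph f n := hc
  have hdeg := finLocFreeOfDeg_classifying f hrep n H Z hZ c hc
  haveI := hdeg.1.1
  haveI : IsSeparated (base f n) := by
    rw [show base f n = c.left ≫ H.hom from (Over.w c).symm]
    infer_instance
  obtain ⟨I, hI, hI'⟩ := exists_diagonalDivisor f n
  obtain ⟨e, hiso, he, heS⟩ :=
    exists_isIso f c.left H.hom (Over.w c) hdeg (perm_comp f hZ c hc) I hI hI' q g hq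
  haveI := hiso
  refine ⟨by rw [← heS]; infer_instance, by rw [← heS]; infer_instance, ?_, ?_⟩
  · have e1 : q = c.left ≫ inv e := by rw [← he, Category.assoc, IsIso.hom_inv_id, Category.comp_id]
    rw [e1, ← mul_one n.factorial]
    exact Rank.finLocFreeOfDeg_comp hdeg (Sec.finLocFreeOfDeg_one_of_isIso (inv e))
  let eO : Over.mk g ≅ H := Over.isoMk (asIso e) heS
  let qO : pow f n ⟶ Over.mk g := Over.homMk q hq.over
  refine ⟨Basic.pullObj f eO.hom Z, qO, rfl, fun T W => ?_, ?_⟩
  · obtain ⟨m, hm, hmu⟩ := hZ T W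
    refine ⟨m ≫ eO.inv, ?_, fun t ht => ?_⟩
    · show _root_.HilbD.pull f (m ≫ eO.inv) (_root_.HilbD.pull f eO.hom Z.1) = W.1
      rw [← Basic.pull_comp, Category.assoc, Iso.inv_hom_id, Category.comp_id]
      exact hm
    · have ht' : t ≫ eO.hom = m := hmu _ ((Basic.pull_comp f eO.hom t Z.1).trans ht)
      rw [← ht', Category.assoc, Iso.hom_inv_id, Category.comp_id]
  · show _root_.HilbD.pull f qO (_root_.HilbD.pull f eO.hom Z.1) = sumGraph f n
    rw [← Basic.pull_comp, show qO ≫ eO.hom = c from Over.OverMorphism.ext he, hc]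

theorem comap_ker {T X' X : Scheme.{u}} (e : X' ≅ X) (s : T ⟶ X) [IsClosedImmersion s] :
    s.ker.comap e.hom = (s ≫ e.inv).ker := by
  have hsq : IsPullback (s ≫ e.inv) (𝟙 T) e.hom s := IsPullback.of_vert_isIso ⟨by simp⟩
  rw [← Scheme.IdealSheafData.ker_fst_of_isClosedImmersion, ← hsq.isoPullback_inv_fst,
    Scheme.Hom.ker_comp_of_isIso]

/-- The descended sum of the graphs. -/
theorem existsUnique_ideal (hAF : SymProd.IsAF f) (q : SymProd.fibPow f n ⟶ Y) (g : Y ⟶ S)
    (hq : SymProd.IsSymProd f n q g)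
    (Φ : pullback (base f n) f ⟶ pullback g f) (hΦ1 : Φ ≫ pullback.fst g f = pullback.fst _ _ ≫ q)
    (hΦ2 : Φ ≫ pullback.snd g f = pullback.snd _ _)
    (s : Fin n → (SymProd.fibPow f n ⟶ pullback (base f n) f))
    (hs1 : ∀ i, s i ≫ pullback.fst _ _ = 𝟙 _) (hs2 : ∀ i, s i ≫ pullback.snd _ _ = pr f n i) :
    (∃! J : (pullback g f).IdealSheafData, J.comap Φ = ∏ i, (s i).ker) ∧
      ∀ J : (pullback g f).IdealSheafData, J.comap Φ = ∏ i, (s i).ker →
        Mor2.IsFinLocFreeOfDeg n (J.subschemeι ≫ pullback.fst g f) := by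
  obtain ⟨-, -, hqdeg, D, qO, hqO, -, hD⟩ := main f hAF q g hq
  subst hqO
  let a := pullbackSymmetry g f
  let b := pullbackSymmetry (base f n) f
  have hΦb : Φ ≫ a.hom = b.hom ≫ PicF.XTmap f qO := by
    apply pullback.hom_ext
    · rw [Category.assoc, Category.assoc, pullbackSymmetry_hom_comp_fst, hΦ2]
      show _ = b.hom ≫ PicF.XTmap f qO ≫ pullback.fst f (Over.mk g).hom
      rw [Basic.XTmap_fst]
      exact (pullbackSymmetry_hom_comp_fst _ _).symm
    · rw [Category.assoc, Category.assoc, pullbackSymmetry_hom_comp_snd, hΦ1]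
      show _ = b.hom ≫ PicF.XTmap f qO ≫ PicF.XTproj f (Over.mk g)
      rw [Basic.XTmap_snd, ← Category.assoc]
      exact congrArg (· ≫ qO.left) (pullbackSymmetry_hom_comp_snd (base f n) f).symm
  have hJ : (D.1.comap a.hom).comap Φ = ∏ i, (s i).ker := by
    rw [← Scheme.IdealSheafData.comap_comp, hΦb, Scheme.IdealSheafData.comap_comp,
      ← Basic.pull_eq_comap, hD]
    have hprod : ∀ {m : ℕ} (J : Fin m → (PicF.XT f (pow f n)).IdealSheafData),
        (∏ i, J i).comap b.hom = ∏ i, (J i).comap b.hom := fun {m} J => by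
      induction m with
      | zero => simp [Scheme.IdealSheafData.comap_top]
      | succ m ih => rw [Fin.prod_univ_succ, Fin.prod_univ_succ, Ideal.Comap.comap_mul, ih]
    unfold sumGraph
    rw [hprod]
    refine Finset.prod_congr rfl fun i _ => ?_
    rw [Sec.secGraph_eq]
    refine (comap_ker b (Sec.sec f (pow f n) (pr f n i) (pr_comp f n i))).trans ?_
    congr 1
    apply pullback.hom_ext
    · rw [Category.assoc, pullbackSymmetry_inv_comp_fst, hs1]
      exact Sec.sec_proj f _ _ _
    · rw [Category.assoc, pullbackSymmetry_inv_comp_snd, hs2]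
      exact Sec.sec_fst f _ _ _
  obtain ⟨hq1, hq2, hq3⟩ := hqdeg.1
  have sqΦ : IsPullback Φ (pullback.fst (base f n) f) (pullback.fst g f) qO.left := by
    refine IsPullback.of_right (h₁₂ := pullback.snd g f) (h₂₂ := g) (v₁₃ := f) ?_ hΦ1
      (IsPullback.of_hasPullback g f).flip
    rw [hΦ2, hq.over]
    exact (IsPullback.of_hasPullback (base f n) f).flip
  haveI : Surjective qO.left := (Scheme.Hom.one_le_finrank_iff_surjective qO.left).mp fun y => by
    rw [Pi.one_apply, hqdeg.2 y]
    exact n.factorial_pos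
  haveI : Flat Φ := MorphismProperty.of_isPullback sqΦ.flip hq2
  haveI : Surjective Φ := MorphismProperty.of_isPullback sqΦ.flip inferInstance
  haveI : IsFinite Φ := MorphismProperty.of_isPullback sqΦ.flip hq1
  have huniq : ∀ J : (pullback g f).IdealSheafData, J.comap Φ = ∏ i, (s i).ker →
      J = D.1.comap a.hom := fun J h => FppfDesc.comap_injective Φ (h.trans hJ.symm)
  refine ⟨⟨D.1.comap a.hom, hJ, huniq⟩, fun J h => ?_⟩
  rw [huniq J h]
  exact Basic.finLocFreeOfDeg_comap (gY := a.hom) (p' := pullback.fst g f)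
    (p := PicF.XTproj f (Over.mk g)) (g := 𝟙 Y)
    (IsPullback.of_horiz_isIso ⟨by
      rw [Category.comp_id]; exact pullbackSymmetry_hom_comp_snd g f⟩) D.2

end Groth.Agent.Lib.SymCurve53
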