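import Groth.Agent.Lib.FinLocFreeRank.Basic
import Groth.Agent.Lib.EtSplit.Basic
import Groth.Agent.Lib.QfhGalois.Basic
import Groth.Prelude.Def_AlgSpMor5

/-!
# Degrees of composites and of trivial covers
-/

set_option autoImplicit false
set_option linter.style.haveILetI false
set_option backward.isDefEq.respectTransparency false

universe u

open CategoryTheory CategoryTheory.Limits AlgebraicGeometry

namespace Groth.Agent.Lib.SymCurve53.Rank

theorem finrank_restrict {X Z : Scheme.{u}} (p : X ⟶ Z) [IsFinite p] [Flat p] {U : Z.Opens} (hU : IsAffineOpen U) (z : Z)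
    (hz : z ∈ U) : (p ∣_ U ≫ hU.isoSpec.hom).finrank (hU.isoSpec.hom ⟨z, hz⟩) = p.finrank z := by
  haveI := IsZariskiLocalAtTarget.restrict (P := @IsFinite) (f := p) inferInstance U
  haveI := IsZariskiLocalAtTarget.restrict (P := @Flat) (f := p) inferInstance U
  have sq : IsPullback (p ⁻¹ᵁ U).ι (p ∣_ U) p U.ι := (isPullback_morphismRestrict p U).flip
  have sq' : IsPullback (𝟙 _) (p ∣_ U) (p ∣_ U ≫ hU.isoSpec.hom) hU.isoSpec.hom :=
    IsPullback.of_horiz_isIso ⟨by simp⟩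
  have h2 := Scheme.Hom.finrank_of_isPullback _ _ _ _ sq ⟨z, hz⟩
  have h3 := Scheme.Hom.finrank_of_isPullback _ _ _ _ sq' ⟨z, hz⟩
  rw [← h3, h2]
  rfl

/-- Degrees multiply. -/
theorem finLocFreeOfDeg_comp {X Y Z : Scheme.{u}} {f : X ⟶ Y} {g : Y ⟶ Z} {a b : ℕ}
    (hf : Mor2.IsFinLocFreeOfDeg a f) (hg : Mor2.IsFinLocFreeOfDeg b g) :
    Mor2.IsFinLocFreeOfDeg (a * b) (f ≫ g) := by
  obtain ⟨hf1, hf2, hf3⟩ := hf.1
  obtain ⟨hg1, hg2, hg3⟩ := hg.1
  refine ⟨⟨inferInstance, inferInstance, inferInstance⟩, fun z => ?_⟩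
  obtain ⟨U, hU, hz, -⟩ := exists_isAffineOpen_mem_and_subset (show z ∈ (⊤ : Z.Opens) from trivial)
  haveI := IsZariskiLocalAtTarget.restrict (P := @IsFinite) hg1 U
  haveI := IsZariskiLocalAtTarget.restrict (P := @Flat) hg2 U
  haveI := IsZariskiLocalAtTarget.restrict (P := @IsFinite) hf1 (g ⁻¹ᵁ U)
  haveI := IsZariskiLocalAtTarget.restrict (P := @Flat) hf2 (g ⁻¹ᵁ U)
  have hrk : ∀ y : (g ⁻¹ᵁ U).toScheme, (f ∣_ g ⁻¹ᵁ U).finrank y = a := fun y => by
    rw [Scheme.Hom.finrank_of_isPullback _ _ _ _ (isPullback_morphismRestrict f (g ⁻¹ᵁ U)).flip y]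
    exact hf.2 _
  rw [← finrank_restrict (f ≫ g) hU z hz, morphismRestrict_comp, Category.assoc]
  refine (FinLocFreeRank.finrank_comp (f ∣_ g ⁻¹ᵁ U) (g ∣_ U ≫ hU.isoSpec.hom) a hrk _).trans ?_
  rw [finrank_restrict g hU z hz, hg.2]

/-- A closed immersion between finite flat schemes of the same rank is an isomorphism. -/
theorem isIso_of_isClosedImmersion {X Y Z : Scheme.{u}} (i : X ⟶ Y) (g : Y ⟶ Z)
    [IsClosedImmersion i] [IsFinite g] [Flat g] [Flat (i ≫ g)]
    (hr : ∀ z, (i ≫ g).finrank z = g.finrank z) : IsIso i := by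
  have key : ∀ U : Z.affineOpens, IsIso (i ∣_ g ⁻¹ᵁ U.1) := fun U => by
    haveI := IsZariskiLocalAtTarget.restrict (P := @IsFinite) (f := g) inferInstance U.1
    haveI := IsZariskiLocalAtTarget.restrict (P := @Flat) (f := g) inferInstance U.1
    haveI := IsZariskiLocalAtTarget.restrict (P := @Flat) (f := i ≫ g) inferInstance U.1
    haveI := IsZariskiLocalAtTarget.restrict (P := @IsClosedImmersion) (f := i) inferInstance (g ⁻¹ᵁ U.1)
    haveI : Flat (i ∣_ g ⁻¹ᵁ U.1 ≫ g ∣_ U.1 ≫ U.2.isoSpec.hom) := by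
      rw [← Category.assoc, ← morphismRestrict_comp]
      infer_instance
    refine FinLocFreeRank.isIso_of_isClosedImmersion _ (g ∣_ U.1 ≫ U.2.isoSpec.hom) fun w => ?_
    obtain ⟨⟨z, hz⟩, rfl⟩ := U.2.isoSpec.hom.surjective w
    rw [← Category.assoc, ← morphismRestrict_comp, finrank_restrict, finrank_restrict]
    exact hr z
  exact (IsZariskiLocalAtTarget.iff_of_iSup_eq_top (P := MorphismProperty.isomorphisms Scheme)
    (fun U : Z.affineOpens => g ⁻¹ᵁ U.1)
    (by rw [← Scheme.Hom.preimage_iSup, iSup_affineOpens_eq_top]; rfl)).mpr key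

/-- The trivial cover. -/
noncomputable def fold (G : Type u) (U : Scheme.{u}) : (∐ fun _ : G => U) ⟶ U :=
  Sigma.desc fun _ => 𝟙 U

theorem fold_props (G : Type u) [Finite G] [Nonempty G] (U : Scheme.{u}) :
    IsFinite (fold G U) ∧ Etale (fold G U) ∧ ∀ x, (fold G U).finrank x = Nat.card G := by
  have h1 : IsFinite (fold G U) := QfhGalois.isFinite_sigmaDesc _ fun _ => inferInstance
  have h2 : Etale (fold G U) :=
    IsZariskiLocalAtSource.sigmaDesc (P := @Etale) fun _ => inferInstance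
  refine ⟨h1, h2, fun x => ?_⟩
  obtain ⟨K, _, _, ω, hω⟩ := QfhGalois.exists_geometric_point U x
  have hn := EtSplit.Basic.natCard_points (fold G U) ω
  rw [hω] at hn
  rw [← hn]
  let F : G → {a : Spec (CommRingCat.of K) ⟶ (∐ fun _ : G => U) // a ≫ fold G U = ω} := fun g =>
    ⟨ω ≫ Sigma.ι (fun _ : G => U) g, by simp [fold]⟩
  refine (Nat.card_congr (Equiv.ofBijective F ⟨fun a b hab => ?_, ?_⟩)).symm
  · by_contra hne
    have e : ω ≫ Sigma.ι (fun _ : G => U) a = ω ≫ Sigma.ι (fun _ : G => U) b := congrArg Subtype.val hab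
    exact Set.disjoint_left.mp
      (TopologicalSpace.Opens.coe_disjoint.mpr (disjoint_opensRange_sigmaι (fun _ : G => U) a b hne))
      ⟨ω (IsLocalRing.closedPoint K), rfl⟩
      ⟨ω (IsLocalRing.closedPoint K), by rw [← Scheme.Hom.comp_apply, ← Scheme.Hom.comp_apply, e]⟩
  · rintro ⟨a, ha⟩
    obtain ⟨⟨g, y⟩, hy⟩ := (sigmaMk fun _ : G => U).surjective (a (IsLocalRing.closedPoint K))
    rw [sigmaMk_mk] at hy
    obtain ⟨v, rfl⟩ := EtSplit.Basic.exists_lift_of_apply_mem (Sigma.ι (fun _ : G => U) g) a ⟨y, hy⟩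
    refine ⟨g, Subtype.ext ?_⟩
    have : v = ω := by simpa [fold] using ha
    subst this
    rfl

end Groth.Agent.Lib.SymCurve53.Rank
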