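import Groth.Agent.Lib.SymCurve53.Rank
import Groth.Agent.Lib.HilbCurve53.Main
import Groth.Agent.Lib.RelDiv.Sum
import Groth.Prelude.Def_SymProd

/-!
# The sum of the tautological sections on a fibre power of a curve
-/

set_option autoImplicit false
set_option linter.style.haveILetI false
set_option backward.isDefEq.respectTransparency false

universe u

open CategoryTheory CategoryTheory.Limits AlgebraicGeometry
open Groth.Agent.Lib Groth.Agent.Lib.HilbD Groth.Agent.Lib.RelDiv

namespace Groth.Agent.Lib.SymCurve53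

variable {C S : Scheme.{u}} (f : C ⟶ S)

/-- The fibre power over the base. -/
noncomputable abbrev base (n : ℕ) : SymProd.fibPow f n ⟶ S :=
  WidePullback.base fun _ : Fin n => f

/-- The projections. -/
noncomputable abbrev pr (n : ℕ) (i : Fin n) : SymProd.fibPow f n ⟶ C :=
  WidePullback.π (fun _ : Fin n => f) i

theorem pr_comp (n : ℕ) (i : Fin n) : pr f n i ≫ f = base f n := WidePullback.π_arrow _ _

/-- The fibre power as an object over the base. -/
noncomputable abbrev pow (n : ℕ) : Over S := Over.mk (base f n)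

/-- The sum of the graphs of the projections. -/
noncomputable def sumGraph (n : ℕ) : (PicF.XT f (pow f n)).IdealSheafData :=
  ∏ i, _root_.HilbD.secGraph f (pow f n) (pr f n i) (pr_comp f n i)

theorem secGraph_congr (T : Over S) {x y : T.left ⟶ C} (h : x = y) (hx : x ≫ f = T.hom)
    (hy : y ≫ f = T.hom) : _root_.HilbD.secGraph f T x hx = _root_.HilbD.secGraph f T y hy := by
  subst h; rfl

theorem pull_prod {T T' : Over S} (g : T' ⟶ T) {n : ℕ} (J : Fin n → (PicF.XT f T).IdealSheafData) :
    _root_.HilbD.pull f g (∏ i, J i) = ∏ i, _root_.HilbD.pull f g (J i) := by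
  induction n with
  | zero => simp [Basic.pull_eq_comap, Scheme.IdealSheafData.comap_top]
  | succ n ih =>
    rw [Fin.prod_univ_succ, Fin.prod_univ_succ, ← ih]
    simp only [Basic.pull_eq_comap, Ideal.Comap.comap_mul]

theorem pull_mul {T T' : Over S} (g : T' ⟶ T) (I J : (PicF.XT f T).IdealSheafData) :
    _root_.HilbD.pull f g (I * J) = _root_.HilbD.pull f g I * _root_.HilbD.pull f g J := by
  simp only [Basic.pull_eq_comap, Ideal.Comap.comap_mul]

/-- Forgetting the `j`-th factor. -/
noncomputable def drop {n : ℕ} (j : Fin (n + 1)) : SymProd.fibPow f (n + 1) ⟶ SymProd.fibPow f n :=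
  WidePullback.lift (base f (n + 1)) (fun k => pr f (n + 1) (j.succAbove k))
    fun k => pr_comp f _ _

theorem drop_base {n : ℕ} (j : Fin (n + 1)) : drop f j ≫ base f n = base f (n + 1) :=
  WidePullback.lift_base _ _ _ _

theorem drop_pr {n : ℕ} (j : Fin (n + 1)) (k : Fin n) :
    drop f j ≫ pr f n k = pr f (n + 1) (j.succAbove k) :=
  WidePullback.lift_π _ _ _ _ k

theorem isPullback_drop {n : ℕ} (j : Fin (n + 1)) :
    IsPullback (pr f (n + 1) j) (drop f j) f (base f n) := by
  have hw : ∀ (s : PullbackCone f (base f n)) (k : Fin (n + 1)),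
      (Fin.insertNth (α := fun _ => s.pt ⟶ C) j s.fst (fun l => s.snd ≫ pr f n l) k) ≫ f =
        s.fst ≫ f := fun s k => by
    induction k using Fin.succAboveCases j with
    | x => rw [Fin.insertNth_apply_same]
    | p l => rw [Fin.insertNth_apply_succAbove, Category.assoc, pr_comp, ← s.condition]
  refine ⟨⟨by rw [pr_comp, drop_base]⟩, ⟨PullbackCone.IsLimit.mk _
    (fun s => WidePullback.lift (s.fst ≫ f) _ (hw s)) (fun s => ?_) (fun s => ?_)
    (fun s m h1 h2 => ?_)⟩⟩
  · rw [WidePullback.lift_π, Fin.insertNth_apply_same]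
  · apply WidePullback.hom_ext
    · intro k
      rw [Category.assoc, drop_pr, WidePullback.lift_π, Fin.insertNth_apply_succAbove]
    · rw [Category.assoc, drop_base, WidePullback.lift_base, s.condition]
  · apply WidePullback.hom_ext
    · intro k
      rw [WidePullback.lift_π]
      induction k using Fin.succAboveCases j with
      | x => rw [Fin.insertNth_apply_same, h1]
      | p l =>
        rw [Fin.insertNth_apply_succAbove]
        show m ≫ pr f (n + 1) (j.succAbove l) = _
        rw [← drop_pr f j l, ← Category.assoc, h2]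
    · rw [WidePullback.lift_base, ← h1, Category.assoc, pr_comp]

section

variable [SmoothOfRelativeDimension 1 f] [IsSeparated f]

instance (T : Over S) : SmoothOfRelativeDimension 1 (PicF.XTproj f T) :=
  haveI := smoothOfRelativeDimension_isStableUnderBaseChange.{u} (n := 1)
  MorphismProperty.pullback_snd (P := @SmoothOfRelativeDimension 1) f T.hom ‹_›

theorem finLocFreeOfDeg_prod (T : Over S) {n : ℕ} (x : Fin n → (T.left ⟶ C))
    (hx : ∀ i, x i ≫ f = T.hom) :
    Mor2.IsFinLocFreeOfDeg n
      ((∏ i, _root_.HilbD.secGraph f T (x i) (hx i)).subschemeι ≫ PicF.XTproj f T) := by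
  induction n with
  | zero =>
    rw [Finset.univ_eq_empty, Finset.prod_empty, Scheme.IdealSheafData.one_eq_top]
    haveI : IsEmpty (⊤ : (PicF.XT f T).IdealSheafData).subscheme := by
      rw [← Scheme.Hom.ker_eq_top_iff_isEmpty (⊤ : (PicF.XT f T).IdealSheafData).subschemeι,
        Scheme.IdealSheafData.ker_subschemeι]
    exact Groth.Agent.S1169.finLocFreeOfDeg_zero_of_isEmpty _
  | succ n ih =>
    rw [Fin.prod_univ_succ]
    have h := Diff.mul_finLocFreeOfDeg (PicF.XTproj f T) _ _ 1 n
      (Sec.finLocFreeOfDeg_secGraph f T (x 0) (hx 0)) (ih _ fun i => hx i.succ)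
    rwa [add_comm 1 n] at h

/-- The sum of the tautological sections as a family of degree `n`. -/
noncomputable def sumObj (n : ℕ) : _root_.HilbD.Obj f n (pow f n) :=
  ⟨sumGraph f n, finLocFreeOfDeg_prod f _ _ _⟩

/-- A permutation of the factors over the base. -/
noncomputable def permOver (n : ℕ) (σ : Equiv.Perm (Fin n)) : pow f n ⟶ pow f n :=
  Over.homMk (SymProd.permHom f n σ) (SymProd.permHom_base f n σ)

theorem pull_permOver_sumGraph (n : ℕ) (σ : Equiv.Perm (Fin n)) :
    _root_.HilbD.pull f (permOver f n σ) (sumGraph f n) = sumGraph f n := by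
  rw [sumGraph, pull_prod]
  refine Fintype.prod_equiv σ.symm _ _ fun i => ?_
  rw [Sec.pull_secGraph]
  exact secGraph_congr f _ (SymProd.permHom_π f n σ i) _ _

theorem perm_comp {n : ℕ} {H : Over S} {Z : _root_.HilbD.Obj f n H}
    (hZ : _root_.HilbD.IsUniversal f n H Z) (c : pow f n ⟶ H)
    (hc : _root_.HilbD.pull f c Z.1 = sumGraph f n) (σ : Equiv.Perm (Fin n)) :
    SymProd.permHom f n σ ≫ c.left = c.left := by
  have h : permOver f n σ ≫ c = c := Basic.hom_ext f hZ (by
    rw [Basic.pull_comp, hc, pull_permOver_sumGraph])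
  exact congrArg (fun a => a.left) h

theorem isIso_hom_zero {H : Over S} {Z : _root_.HilbD.Obj f 0 H}
    (hZ : _root_.HilbD.IsUniversal f 0 H Z) : IsIso H.hom := by
  have htop : ∀ (T : Over S) (W : _root_.HilbD.Obj f 0 T), W.1 = ⊤ := fun T W => by
    obtain ⟨h1, h2, h3⟩ := W.2.1
    have hemp : IsEmpty W.1.subscheme := ⟨fun x => by
      have := Scheme.Hom.one_le_finrank_map (W.1.subschemeι ≫ PicF.XTproj f T) x
      rw [W.2.2] at this
      exact absurd this (by norm_num)⟩
    rw [← W.1.ker_subschemeι]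
    exact (Scheme.Hom.ker_eq_top_iff_isEmpty _).mpr hemp
  let T0 : Over S := Over.mk (𝟙 S)
  haveI : IsEmpty (⊤ : (PicF.XT f T0).IdealSheafData).subscheme := by
    rw [← Scheme.Hom.ker_eq_top_iff_isEmpty (⊤ : (PicF.XT f T0).IdealSheafData).subschemeι,
      Scheme.IdealSheafData.ker_subschemeι]
  obtain ⟨s, -, -⟩ := hZ T0 ⟨⊤, Groth.Agent.S1169.finLocFreeOfDeg_zero_of_isEmpty _⟩
  let r : H ⟶ T0 := Over.homMk H.hom (Category.comp_id _)
  have h2 : r ≫ s = 𝟙 H := Basic.hom_ext f hZ
    ((htop H (Basic.pullObj f (r ≫ s) Z)).trans (htop H (Basic.pullObj f (𝟙 H) Z)).symm)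
  exact ⟨s.left, congrArg (fun a => CommaMorphism.left a) h2, Over.w s⟩

/-- The map to the Hilbert scheme is finite locally free of degree `n!`. -/
theorem finLocFreeOfDeg_classifying (hrep : ∀ e : ℕ, _root_.HilbD.Representable f e) (n : ℕ)
    (H : Over S) (Z : _root_.HilbD.Obj f n H) (hZ : _root_.HilbD.IsUniversal f n H Z)
    (c : pow f n ⟶ H) (hc : _root_.HilbD.pull f c Z.1 = sumGraph f n) :
    Mor2.IsFinLocFreeOfDeg n.factorial c.left := by
  induction n generalizing H with
  | zero =>
    haveI := isIso_hom_zero f hZ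
    haveI : IsIso (base f 0) := by
      refine ⟨WidePullback.lift (𝟙 S) (fun i => i.elim0) (fun i => i.elim0), ?_,
        WidePullback.lift_base _ _ _ _⟩
      apply WidePullback.hom_ext
      · exact fun i => i.elim0
      · rw [Category.assoc, WidePullback.lift_base, Category.comp_id, Category.id_comp]
    haveI : IsIso (c.left ≫ H.hom) := by
      rw [Over.w c]
      show IsIso (base f 0)
      infer_instance
    haveI : IsIso c.left := IsIso.of_isIso_comp_right c.left H.hom
    exact Sec.finLocFreeOfDeg_one_of_isIso _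
  | succ n ih =>
    obtain ⟨H₀, Z₀, hZ₀⟩ := hrep n
    obtain ⟨c₀, hc₀, -⟩ := hZ₀ (pow f n) (sumObj f n)
    replace hc₀ : _root_.HilbD.pull f c₀ Z₀.1 = sumGraph f n := hc₀
    have hdeg := ih H₀ Z₀ hZ₀ c₀ hc₀
    let T : Over S := Over.mk (pullback.fst H₀.hom f ≫ H₀.hom)
    let p : T ⟶ H₀ := Over.homMk (pullback.fst H₀.hom f) rfl
    obtain ⟨m, hm, -⟩ := hZ T ⟨_root_.HilbD.pull f p Z₀.1 *
      _root_.HilbD.secGraph f T (pullback.snd H₀.hom f) pullback.condition.symm,
      Diff.mul_finLocFreeOfDeg (PicF.XTproj f T) _ _ n 1 (Basic.pullObj f p Z₀).2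
        (Sec.finLocFreeOfDeg_secGraph f T _ _)⟩
    have hmdeg := Groth.Agent.S1173.result f n H₀ Z₀ hZ₀ H Z hZ m hm
    let j := Fin.last n
    have hw : (drop f j ≫ c₀.left) ≫ H₀.hom = pr f (n + 1) j ≫ f := by
      rw [Category.assoc, Over.w c₀, pr_comp]
      exact drop_base f j
    let w : SymProd.fibPow f (n + 1) ⟶ pullback H₀.hom f := pullback.lift _ _ hw
    have sq : IsPullback w (drop f j) (pullback.fst H₀.hom f) c₀.left := by
      refine IsPullback.of_right (h₁₂ := pullback.snd H₀.hom f) (h₂₂ := H₀.hom) (v₁₃ := f) ?_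
        (pullback.lift_fst _ _ _) (IsPullback.of_hasPullback H₀.hom f).flip
      have e1 : w ≫ pullback.snd H₀.hom f = pr f (n + 1) j := pullback.lift_snd _ _ _
      rw [e1, Over.w c₀]
      exact isPullback_drop f j
    have hwdeg : Mor2.IsFinLocFreeOfDeg n.factorial w :=
      MorphismProperty.of_isPullback (P := AlgSp.finLocFreeOfDeg n.factorial) sq.flip hdeg
    let wO : pow f (n + 1) ⟶ T := Over.homMk w (by
      show w ≫ pullback.fst H₀.hom f ≫ H₀.hom = base f (n + 1)
      rw [← Category.assoc, show w ≫ pullback.fst H₀.hom f = _ from pullback.lift_fst _ _ _, hw,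
        pr_comp])
    let dO : pow f (n + 1) ⟶ pow f n := Over.homMk (drop f j) (drop_base f j)
    have e : c = wO ≫ m := Basic.hom_ext f hZ (by
      rw [hc, Basic.pull_comp, hm]
      show _ = _root_.HilbD.pull f wO (_root_.HilbD.pull f p Z₀.1 * _)
      rw [pull_mul, Sec.pull_secGraph, ← Basic.pull_comp,
        show wO ≫ p = dO ≫ c₀ from Over.OverMorphism.ext (pullback.lift_fst _ _ _),
        Basic.pull_comp, hc₀]
      simp only [sumGraph]
      rw [pull_prod, Fin.prod_univ_castSucc]
      congr 1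
      · refine Finset.prod_congr rfl fun k _ => ?_
        rw [Sec.pull_secGraph]
        exact secGraph_congr f _ (by rw [← Fin.succAbove_last]; exact (drop_pr f j k).symm) _ _
      · exact secGraph_congr f _ (pullback.lift_snd _ _ _).symm _ _)
    rw [e, Over.comp_left, Nat.factorial_succ, mul_comm]
    exact Rank.finLocFreeOfDeg_comp hwdeg hmdeg

/-- An effective Cartier divisor off which the coordinates are pairwise distinct. -/
theorem exists_diagonalDivisor (n : ℕ) :
    ∃ I : (SymProd.fibPow f n).IdealSheafData, BlowUp.IsEffCartierIdeal I ∧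
      ∀ (T : Scheme.{u}) (a : T ⟶ SymProd.fibPow f n) (i j : Fin n), i ≠ j →
        a ≫ pr f n i = a ≫ pr f n j → ∀ x, a x ∈ I.support := by
  classical
  have key : ∀ q : Fin n × Fin n, ∃ J : (SymProd.fibPow f n).IdealSheafData,
      BlowUp.IsEffCartierIdeal J ∧ ∀ (T : Scheme.{u}) (a : T ⟶ SymProd.fibPow f n), q.1 ≠ q.2 →
        a ≫ pr f n q.1 = a ≫ pr f n q.2 → ∀ x, a x ∈ J.support := by
    rintro ⟨i, j⟩
    by_cases hij : i = j
    · exact ⟨⊤, Ideal.EffCartier.isEffCartier_top, fun T a h => absurd hij h⟩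
    obtain ⟨m, rfl⟩ : ∃ m, n = m + 1 := ⟨n - 1, by have := i.2; omega⟩
    obtain ⟨k, hk⟩ := Fin.exists_succAbove_eq hij
    let sq := isPullback_drop f j
    let G := _root_.HilbD.secGraph f (pow f m) (pr f m k) (pr_comp f m k)
    refine ⟨G.comap sq.isoPullback.hom, Ideal.EffCartier.isEffCartier_comap_of_flat _
      (Cartier.isEffCartier_of_isFinLocFree (PicF.XTproj f (pow f m)) _
        (Sec.finLocFreeOfDeg_secGraph f _ _ _).1), fun T a _ h x => ?_⟩
    have e : a ≫ sq.isoPullback.hom =
        (a ≫ drop f j) ≫ Sec.sec f (pow f m) (pr f m k) (pr_comp f m k) := by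
      apply pullback.hom_ext
      · rw [Category.assoc, IsPullback.isoPullback_hom_fst, Category.assoc, Category.assoc]
        show a ≫ pr f (m + 1) j = a ≫ drop f j ≫ Sec.sec f (pow f m) (pr f m k) (pr_comp f m k) ≫
          pullback.fst f (pow f m).hom
        rw [Sec.sec_fst, drop_pr, hk]
        exact h.symm
      · rw [Category.assoc, IsPullback.isoPullback_hom_snd, Category.assoc, Category.assoc]
        show a ≫ drop f j = a ≫ drop f j ≫ Sec.sec f (pow f m) (pr f m k) (pr_comp f m k) ≫
          PicF.XTproj f (pow f m)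
        rw [Sec.sec_proj]
        exact congrArg (a ≫ ·) (Category.comp_id _).symm
    rw [Scheme.IdealSheafData.support_comap]
    show sq.isoPullback.hom (a x) ∈ G.support
    rw [← Scheme.Hom.comp_apply, e, Scheme.Hom.comp_apply]
    show _ ∈ (G.support : Set (PicF.XT f (pow f m)))
    rw [show G = (Sec.sec f (pow f m) (pr f m k) (pr_comp f m k)).ker from rfl,
      Scheme.Hom.support_ker]
    exact subset_closure ⟨_, rfl⟩
  choose J hJ hJ' using key
  refine ⟨∏ q : Fin n × Fin n, J q, ?_, fun T a i j hij h x => ?_⟩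
  · refine Finset.prod_induction _ _ (fun _ _ => Ideal.EffCartier.isEffCartier_mul) ?_ fun q _ => hJ q
    rw [Scheme.IdealSheafData.one_eq_top]
    exact Ideal.EffCartier.isEffCartier_top
  · refine Scheme.IdealSheafData.support_antitone ?_ (hJ' (i, j) T a hij h x)
    rw [← Finset.mul_prod_erase _ _ (Finset.mem_univ (i, j))]
    exact Sum.mul_le_left _ _

end

end Groth.Agent.Lib.SymCurve53
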