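import Groth.Agent.Lib.SymCurve53.Fib
import Groth.Agent.Lib.SchQuot.Props
import Groth.Agent.Lib.SchDense.Basic
import Groth.Agent.Lib.AlgSpDiv.Compl
import Groth.Agent.S2925
import Mathlib.AlgebraicGeometry.Sites.Fpqc

/-!
# A degree `n!` invariant map off a diagonal divisor is the quotient
-/

set_option autoImplicit false
set_option linter.style.haveILetI false
set_option backward.isDefEq.respectTransparency false

universe u

open CategoryTheory CategoryTheory.Limits AlgebraicGeometry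
open Groth.Agent.Lib

namespace Groth.Agent.Lib.SymCurve53

variable {C S Y H : Scheme.{u}} (f : C ⟶ S) {n : ℕ}

/-- An invariant map of degree `n!` from a fibre power to a scheme over the base is the quotient,
provided the coincidence locus of the coordinates lies in an effective Cartier divisor. -/
theorem exists_isIso [IsSeparated f] (c : SymProd.fibPow f n ⟶ H) (hS : H ⟶ S) (hcS : c ≫ hS = base f n)
    (hdeg : Mor2.IsFinLocFreeOfDeg n.factorial c)
    (hinv : ∀ σ : Equiv.Perm (Fin n), SymProd.permHom f n σ ≫ c = c)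
    (I : (SymProd.fibPow f n).IdealSheafData) (hI : BlowUp.IsEffCartierIdeal I)
    (hI' : ∀ (T : Scheme.{u}) (a : T ⟶ SymProd.fibPow f n) (i j : Fin n), i ≠ j →
      a ≫ pr f n i = a ≫ pr f n j → ∀ x, a x ∈ I.support)
    [IsSeparated (base f n)]
    (q : SymProd.fibPow f n ⟶ Y) (g : Y ⟶ S) (hq : SymProd.IsSymProd f n q g) :
    ∃ e : Y ⟶ H, IsIso e ∧ q ≫ e = c ∧ e ≫ hS = g := by
  classical
  obtain ⟨hc1, hc2, hc3⟩ := hdeg.1
  haveI : Surjective c := (Scheme.Hom.one_le_finrank_iff_surjective c).mp fun y => by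
    rw [Pi.one_apply, hdeg.2 y]
    exact n.factorial_pos
  haveI hsep : IsSeparated g := SchQuot.Props.isSeparated_of_comp hq.isQuot g
    (by rw [hq.over]; infer_instance)
  obtain ⟨e, he, -⟩ := Groth.Agent.S2925.result (SymProd.permActU f n) q hq.isQuot H c
    fun σ => hinv σ.down
  let p₁ := pullback.fst c c
  let p₂ := pullback.snd c c
  have hqinv : ∀ σ : Equiv.Perm (Fin n), SymProd.permHom f n σ ≫ q = q := fun σ =>
    hq.isQuot.inv (ULift.up σ)
  let U : (SymProd.fibPow f n).Opens := I.support.compl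
  let G := ULift.{u} (Equiv.Perm (Fin n))
  have sqU := isPullback_morphismRestrict p₁ U
  let s : G → ((U : Scheme.{u}) ⟶ (p₁ ⁻¹ᵁ U).toScheme) := fun σ =>
    sqU.lift (𝟙 _) (pullback.lift U.ι (U.ι ≫ SymProd.permHom f n σ.down)
      (by rw [Category.assoc, hinv])) (by simp [p₁])
  have hs1 : ∀ σ, s σ ≫ (p₁ ∣_ U) = 𝟙 _ := fun σ => sqU.lift_fst _ _ _
  have hs2 : ∀ σ, s σ ≫ (p₁ ⁻¹ᵁ U).ι ≫ p₁ = U.ι := fun σ => by
    rw [← Category.assoc, sqU.lift_snd, pullback.lift_fst]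
  have hs3 : ∀ σ, s σ ≫ (p₁ ⁻¹ᵁ U).ι ≫ p₂ = U.ι ≫ SymProd.permHom f n σ.down := fun σ => by
    rw [← Category.assoc, sqU.lift_snd, pullback.lift_snd]
  let ψ : (∐ fun _ : G => (U : Scheme.{u})) ⟶ (p₁ ⁻¹ᵁ U).toScheme := Sigma.desc s
  have hψ : ψ ≫ (p₁ ∣_ U) = Rank.fold G (U : Scheme.{u}) :=
    Sigma.hom_ext _ _ fun σ => by simp [ψ, Rank.fold, hs1]
  obtain ⟨hf1, hf2, hf3⟩ := Rank.fold_props G (U : Scheme.{u})
  haveI : IsFinite (p₁ ∣_ U) := IsZariskiLocalAtTarget.restrict (P := @IsFinite) inferInstance U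
  haveI : Flat (p₁ ∣_ U) := IsZariskiLocalAtTarget.restrict (P := @Flat) inferInstance U
  haveI : IsFinite (ψ ≫ (p₁ ∣_ U)) := by rw [hψ]; exact hf1
  haveI : Flat (ψ ≫ (p₁ ∣_ U)) := by rw [hψ]; infer_instance
  haveI : IsFinite ψ := IsFinite.of_comp ψ (p₁ ∣_ U)
  haveI : Mono ψ := ⟨fun {T} a b hab => by
    refine Scheme.hom_ext_of_forall a b fun x => ?_
    obtain ⟨⟨σ, y⟩, hy⟩ := (sigmaMk fun _ : G => (U : Scheme.{u})).surjective (a x)
    obtain ⟨⟨τ, z⟩, hz⟩ := (sigmaMk fun _ : G => (U : Scheme.{u})).surjective (b x)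
    rw [sigmaMk_mk] at hy hz
    let ισ := Sigma.ι (fun _ : G => (U : Scheme.{u})) σ
    let ιτ := Sigma.ι (fun _ : G => (U : Scheme.{u})) τ
    let V : T.Opens := a ⁻¹ᵁ ισ.opensRange ⊓ b ⁻¹ᵁ ιτ.opensRange
    have hx : x ∈ V := ⟨⟨y, hy⟩, ⟨z, hz⟩⟩
    refine ⟨V, hx, ?_⟩
    obtain ⟨a', ha⟩ : ∃ a' : (V : Scheme.{u}) ⟶ U, a' ≫ ισ = V.ι ≫ a :=
      ⟨IsOpenImmersion.lift ισ (V.ι ≫ a) (by rintro _ ⟨v, rfl⟩; exact v.2.1),
        IsOpenImmersion.lift_fac _ _ _⟩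
    obtain ⟨b', hb⟩ : ∃ b' : (V : Scheme.{u}) ⟶ U, b' ≫ ιτ = V.ι ≫ b :=
      ⟨IsOpenImmersion.lift ιτ (V.ι ≫ b) (by rintro _ ⟨v, rfl⟩; exact v.2.2),
        IsOpenImmersion.lift_fac _ _ _⟩
    have h1 : a' ≫ s σ = b' ≫ s τ := by
      have := congrArg (V.ι ≫ ·) hab
      simp only [← Category.assoc, ← ha, ← hb] at this
      simpa [ψ, ισ, ιτ] using this
    have h2 : a' = b' := by
      have := congrArg (· ≫ (p₁ ∣_ U)) h1
      simpa [hs1] using this
    subst h2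
    by_cases hστ : σ = τ
    · subst hστ
      rw [← ha, ← hb]
    exfalso
    have h3 := congrArg (· ≫ (p₁ ⁻¹ᵁ U).ι ≫ p₂) h1
    simp only [Category.assoc, hs3] at h3
    obtain ⟨i, hi⟩ : ∃ i, σ.down.symm i ≠ τ.down.symm i := by
      by_contra hh
      push_neg at hh
      exact hστ (ULift.ext _ _ (Equiv.symm_bijective.injective (Equiv.ext hh)))
    have h4 : (a' ≫ U.ι) ≫ pr f n (σ.down.symm i) = (a' ≫ U.ι) ≫ pr f n (τ.down.symm i) := by
      have := congrArg (· ≫ pr f n i) h3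
      simpa [pr, Category.assoc] using this
    exact (a' ⟨x, hx⟩).2 (hI' _ (a' ≫ U.ι) _ _ hi h4 ⟨x, hx⟩)⟩
  haveI : IsClosedImmersion ψ := (IsClosedImmersion.iff_isFinite_and_mono ψ).2 ⟨‹_›, ‹_›⟩
  haveI : IsIso ψ := Rank.isIso_of_isClosedImmersion ψ (p₁ ∣_ U) fun z => by
    rw [hψ, hf3, Scheme.Hom.finrank_of_isPullback _ _ _ _ (isPullback_morphismRestrict p₁ U).flip z,
      Scheme.Hom.finrank_pullback_fst, hdeg.2]
    rw [Nat.card_ulift, Nat.card_eq_fintype_card, Fintype.card_perm, Fintype.card_fin]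
  have hV : (p₁ ⁻¹ᵁ U).ι ≫ p₁ ≫ q = (p₁ ⁻¹ᵁ U).ι ≫ p₂ ≫ q := by
    rw [← cancel_epi ψ]
    refine Sigma.hom_ext _ _ fun σ => ?_
    simp only [ψ, Sigma.ι_desc_assoc]
    rw [reassoc_of% hs2 σ, reassoc_of% hs3 σ, hqinv]
  have hdense : CInt.IsSchematicallyDense (p₁ ⁻¹ᵁ U) := by
    have hU : p₁ ⁻¹ᵁ U = (I.comap p₁).support.compl := by
      ext x
      show p₁ x ∉ I.support ↔ x ∉ (I.comap p₁).support
      rw [Scheme.IdealSheafData.support_comap]
      rfl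
    rw [hU]
    exact AlgSpDiv.isSchematicallyDense_compl_support
      (Ideal.EffCartier.isEffCartier_comap_of_flat p₁ hI)
  have hker : p₁ ≫ q = p₂ ≫ q := SchDense.Basic.ext_of_isSchematicallyDense g
    (by
      have hb : q ≫ g = c ≫ hS := hq.over.trans hcS.symm
      rw [Category.assoc, Category.assoc, hb]
      simp only [← Category.assoc, p₁, p₂, pullback.condition]) hdense hV
  have hdesc : ∀ {Z : Scheme.{u}} (g₁ g₂ : Z ⟶ SymProd.fibPow f n), g₁ ≫ c = g₂ ≫ c →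
      g₁ ≫ q = g₂ ≫ q := fun g₁ g₂ h => by
    have := congrArg (pullback.lift g₁ g₂ h ≫ ·) hker
    simpa only [p₁, p₂, pullback.lift_fst_assoc, pullback.lift_snd_assoc] using this
  let e' := EffectiveEpi.desc c q hdesc
  have he' : c ≫ e' = q := EffectiveEpi.fac c q hdesc
  have h1 : e ≫ e' = 𝟙 Y := by
    obtain ⟨k, -, hk⟩ := Groth.Agent.S2925.result (SymProd.permActU f n) q hq.isQuot Y q hq.isQuot.inv
    rw [hk (e ≫ e') (show q ≫ e ≫ e' = q by rw [← Category.assoc, he, he']),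
      hk (𝟙 Y) (Category.comp_id q)]
  have h2 : e' ≫ e = 𝟙 H := by
    rw [← cancel_epi c, ← Category.assoc, he', he, Category.comp_id]
  refine ⟨e, ⟨e', h1, h2⟩, he, ?_⟩
  obtain ⟨k, -, hk⟩ := Groth.Agent.S2925.result (SymProd.permActU f n) q hq.isQuot S (base f n)
    fun σ => SymProd.permHom_base f n σ.down
  rw [hk (e ≫ hS) (show q ≫ e ≫ hS = base f n by rw [← Category.assoc, he, hcS]), hk g hq.over]

end Groth.Agent.Lib.SymCurve53
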